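import Groth.Agent.H69.FibreLoci.FreeFibreSet
import Groth.Agent.Lib.ModStDesc.Coh
import Groth.Agent.Lib.AlgStack.OpenLocus
import Groth.Agent.Lib.AlgStack.Yoneda

/-!
The locus of a family of finitely presented flat modules where it is finite locally free of given rank.
-/

set_option autoImplicit false
set_option backward.isDefEq.respectTransparency false
set_option backward.isDefEq.respectTransparency.types false

universe u

open CategoryTheory CategoryTheory.Limits AlgebraicGeometry TopologicalSpace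
open Groth.Agent.Lib
open Groth.Agent.H69.FibreLoci

namespace Groth.Agent.H73.InvLocus

/-- The free locus of a finitely presented module is open. -/
theorem isOpen_ok {X : Scheme.{u}} (n : Option ℕ) {M : X.Modules} (hM : CohB1.IsFP M) :
    IsOpen {x : X | FreeFibre.OK n M x} := by
  haveI : SheafOfModules.IsFinitePresentation (R := X.ringCatSheaf) M := hM
  rw [isOpen_iff_forall_mem_open]
  rintro x ⟨h1, h2⟩
  obtain ⟨U, hU, hxU, hFP⟩ := TensorMod.FPCrit.exists_affine_finitePresentation M x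
  have : IsAffine (U : Scheme.{u}) := hU
  have := hFP
  have hMq : M.IsQuasicoherent := inferInstance
  have : (M.restrict U.ι).IsQuasicoherent :=
    have := QCoh.Pullback.isQCoh_pullback U.ι M
    (SheafOfModules.isQuasicoherent (R := (U : Scheme.{u}).ringCatSheaf)).prop_of_iso
      ((Scheme.Modules.restrictFunctorIsoPullback U.ι).app M).symm ‹_›
  let y : (U : Scheme.{u}) := ⟨x, hxU⟩
  have : Module.Free (X.presheaf.stalk (U.ι y)) (M.presheaf.stalk (U.ι y)) := h1
  have := TensorMod.FPCrit.free_stalk_restrict U.ι M y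
  have : SheafOfModules.IsFiniteType (R := (U : Scheme.{u}).ringCatSheaf) (M.restrict U.ι) :=
    CohBasics.Affine.isFiniteType_of_finite_sections fun z =>
      ⟨⊤, isAffineOpen_top _, trivial, inferInstance⟩
  have := Modules.GenStalk.finite_stalk (M.restrict U.ι) y
  obtain ⟨W, d, hy, ⟨i⟩⟩ :=
    TensorMod.FPCrit.exists_free_nhd (M := M.restrict U.ι) (isAffineOpen_top _) (x := y) trivial
  have key : ∀ z : (U : Scheme.{u}), FreeFibre.OK n M (U.ι z) ↔ FreeFibre.OK n (M.restrict U.ι) z :=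
    fun z => ((FreeFibre.ok_congr ((Scheme.Modules.restrictFunctorIsoPullback U.ι).app M) z).trans
      (FreeFibre.ok_openImmersion n U.ι M z)).symm
  refine ⟨U.ι ''ᵁ W, ?_, (U.ι ''ᵁ W).2, ⟨y, hy, rfl⟩⟩
  rintro _ ⟨z, hz, rfl⟩
  obtain ⟨s, hs⟩ := CurveBundle.Coherent.exists_basis_sections i
  refine (key z).2 ⟨Module.Free.of_basis (Module.Basis.mk (hs z hz).1 (hs z hz).2.ge), fun m hm => ?_⟩
  exact ((FreeFibreSet.finrank_of_restrict i z hz).trans (FreeFibreSet.finrank_of_restrict i y hy).symm).trans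
    (((key y).1 ⟨h1, h2⟩).2 m hm)

variable {X S : Scheme.{u}} {f : X ⟶ S}

/-- The module of the source is the inverse image of the module of the target. -/
noncomputable def homIso {A B : ModSt.Obj f} (φ : A ⟶ B) :
    (Scheme.Modules.pullback φ.top).obj B.E ≅ A.E :=
  asIso (ModStDesc.thM φ (𝟙 A.XT) φ.top (Category.id_comp _)) ≪≫
    (Scheme.Modules.pullbackId A.XT).app A.E

theorem ok_hom_iff [LocallyOfFinitePresentation f] (n : Option ℕ) {a b : (ModSt.Coh f).obj}
    (φ : a ⟶ b) (x : a.obj.XT) :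
    FreeFibre.OK n a.obj.E x ↔ FreeFibre.OK n b.obj.E (φ.hom.top x) := by
  have : LocallyOfFinitePresentation b.obj.q :=
    MorphismProperty.of_isPullback b.obj.isPullback inferInstance
  exact (FreeFibre.ok_congr (homIso φ.hom) x).symm.trans
    (FreeFibre.ok_baseChange_iff n b.obj.q b.obj.E b.property.2 b.property.1 φ.hom.isPullback_top x)

theorem isFinLocFreeOfRank_iff (r : ℕ) (a : (ModSt.Coh f).obj) :
    FlatMod.IsFinLocFreeOfRank r a.obj.E ↔ ∀ x, FreeFibre.OK (some r) a.obj.E x :=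
  FreeFibreSet.isFinLocFreeOfRank_iff a.property.2 r

theorem closed_iso [LocallyOfFinitePresentation f] (r : ℕ) :
    ObjectProperty.IsClosedUnderIsomorphisms
      (fun A : (ModSt.Coh f).obj => FlatMod.IsFinLocFreeOfRank r A.obj.E) :=
  ⟨fun e h => (isFinLocFreeOfRank_iff r _).2 fun x =>
    (ok_hom_iff (some r) e.inv x).2 ((isFinLocFreeOfRank_iff r _).1 h _)⟩

/-- The image in the base of the points where `b` is not free of rank `r`. -/
theorem forall_ok_iff [LocallyOfFinitePresentation f] (r : ℕ) {a b : (ModSt.Coh f).obj} (φ : a ⟶ b) :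
    (∀ x, FreeFibre.OK (some r) a.obj.E x) ↔
      Set.range φ.hom.base.left ⊆ (b.obj.q '' {x | FreeFibre.OK (some r) b.obj.E x}ᶜ)ᶜ := by
  constructor
  · rintro h _ ⟨t, rfl⟩ ⟨x, hx, hxt⟩
    obtain ⟨z, hz, -⟩ := Scheme.exists_preimage_of_isPullback φ.hom.isPullback_top x t hxt
    exact hx (hz ▸ (ok_hom_iff (some r) φ z).1 (h z))
  · intro h z
    by_contra hz
    refine h ⟨a.obj.q z, rfl⟩ ⟨φ.hom.top z, fun hh => hz ((ok_hom_iff (some r) φ z).2 hh), ?_⟩
    exact congr($(φ.hom.w_q) z)

theorem hasOpenLoci [LocallyOfFinitePresentation f] [IsProper f] (r : ℕ) :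
    AlgStack.OpenLocus.HasOpenLoci
      (fun A : (ModSt.Coh f).obj => FlatMod.IsFinLocFreeOfRank r A.obj.E) := by
  intro U y
  let b := y.obj (Over.mk (𝟙 U))
  have hb : b.obj.base = U := BasedFunctor.w_obj y (Over.mk (𝟙 U))
  have : IsProper b.obj.q := MorphismProperty.of_isPullback b.obj.isPullback inferInstance
  let O0 : b.obj.base.left.Opens := ⟨(b.obj.q '' {x | FreeFibre.OK (some r) b.obj.E x}ᶜ)ᶜ,
    (b.obj.q.isClosedMap _ (isOpen_ok _ b.property.2).isClosed_compl).isOpen_compl⟩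
  refine ⟨(eqToHom hb.symm).left ⁻¹ᵁ O0, fun g => ?_⟩
  have := AlgStack.Yoneda.map_toId_isHomLift y g
  have hφ := ModStDesc.base_eq (y.map (AlgStack.Yoneda.toId g)) this
  refine (isFinLocFreeOfRank_iff r (y.obj g)).trans ?_
  rw [forall_ok_iff r (y.map (AlgStack.Yoneda.toId g))]
  have hbase : ∀ t, (y.map (AlgStack.Yoneda.toId g)).hom.base.left t =
      (eqToHom hb.symm).left (g.hom.left ((eqToHom (BasedFunctor.w_obj y g)).left t)) := fun t => by
    rw [hφ]; rfl
  constructor
  · rintro h _ ⟨t, rfl⟩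
    obtain ⟨t', rfl⟩ : ∃ t', (eqToHom (BasedFunctor.w_obj y g)).left t' = t :=
      ⟨(eqToHom (BasedFunctor.w_obj y g).symm).left t, by
        rw [← Scheme.Hom.comp_apply, ← Over.comp_left, eqToHom_trans, eqToHom_refl]; rfl⟩
    show (eqToHom hb.symm).left _ ∈ O0
    rw [← hbase]
    exact h ⟨t', rfl⟩
  · rintro h _ ⟨t, rfl⟩
    rw [hbase]
    exact h ⟨_, rfl⟩

end Groth.Agent.H73.InvLocus
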